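import Cfsg.Agent.FischerThm.Symp.Points
import Cfsg.Agent.ThreeTrans.OrthClass

/-!
# Symplectic groups below give orthogonal groups over two elements
-/

set_option autoImplicit false

open scoped MatrixGroups
open Cfsg
open Cfsg.Agent.ThreeTrans (dperp)
open Matrix QuadraticMap Cfsg.Agent.Classical

namespace Cfsg.Agent

namespace FischerThm.SympCase

variable {G : Type*} [Group G] [Finite G] {D : Set G} {d c : G} {m : ℕ} {vec : G → Vec m}

theorem exists_common_mem (S : Step D d) (hc : c ∈ aside D d) : (common D d c).Nonempty := by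
  obtain ⟨x, hx, hxc⟩ := ThreeTrans.exists_common S.sol' S.perf S.cls S.mem hc.1 hc.2
  exact ⟨x, hx, hx.1, fun e => hc.2 (e ▸ hx.2.2), hxc.symm⟩

/-- Twice as many members not commuting with `d` as zeros of the indicator. -/
theorem aside_count (S : Step D d) (V : Coord D d m vec) (hm : 2 ≤ m) (hc : c ∈ aside D d) :
    (aside D d).ncard = 2 * {v | indic D d c vec v = 0}.ncard := by
  classical
  obtain ⟨x, hx⟩ := exists_common_mem S hc
  obtain ⟨hab, hsum⟩ := ncard_mul V.indic_zero (V.quadratic S.group hm hc ⟨x, hx⟩)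
  have ha : (common D d c).ncard = {v | indic D d c vec v = 1}.ncard := by
    rw [← (V.bij.injOn.mono fun _ h => h.1).ncard_image]
    congr 1
    ext v
    exact indic_eq_one.symm
  have hN : Nat.card (Vec m) = 4 ^ m := by
    rw [Nat.card_fun, Nat.card_zmod, Nat.card_sum, Nat.card_fin, ← two_mul, pow_mul]; norm_num
  have hk : (dperp D d).ncard + 1 = 4 ^ m := by
    rw [← V.bij.injOn.ncard_image, V.bij.image_eq, ← hN, show {v : Vec m | v ≠ 0} = {0}ᶜ from rfl,
      ← Set.ncard_singleton (0 : Vec m), add_comm, Set.ncard_add_ncard_compl]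
  set u := vec x with hu
  set K := {v | form m u v = 0} with hK
  have hl : (dperp D d ∩ dperp D x).ncard + 2 = K.ncard := by
    have hu0 : u ≠ 0 := V.ne_zero hx.1
    have h1 : vec '' (dperp D d ∩ dperp D x) = K \ {0, u} := by
      apply Set.Subset.antisymm
      · rintro - ⟨z, hz, rfl⟩
        refine ⟨(V.comm x hx.1 z hz.1).1 hz.2.2.2, ?_⟩
        rintro (h | h)
        · exact V.ne_zero hz.1 h
        · exact hz.2.2.1 (V.inj hz.1 hx.1 h)
      · rintro v ⟨hv, hv'⟩
        rw [Set.mem_insert_iff, Set.mem_singleton_iff, not_or] at hv'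
        obtain ⟨z, hz, rfl⟩ := V.exists_eq hv'.1
        exact ⟨z, ⟨hz, hz.1, fun h => hv'.2 (by rw [h]), (V.comm x hx.1 z hz).2 hv⟩, rfl⟩
    have hsub : ({0, u} : Set (Vec m)) ⊆ K := by
      rintro v (rfl | rfl)
      · exact map_zero _
      · exact form_self u
    have h2 := Set.ncard_pair hu0.symm
    have h3 := Set.ncard_sdiff_add_ncard_of_subset hsub
    rw [h2] at h3
    rw [← (V.bij.injOn.mono Set.inter_subset_left).ncard_image, h1]
    exact h3
  have hKhalf : 2 * K.ncard = 4 ^ m := by
    obtain ⟨w, hw⟩ := exists_form_one (V.ne_zero hx.1)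
    have h1 : (fun v => v + w) '' K = Kᶜ := by
      apply Set.Subset.antisymm
      · rintro - ⟨v, hv, rfl⟩ h
        have hv' : form m u v = 0 := hv
        have h' : form m u (v + w) = 0 := h
        rw [map_add, hv', hw, zero_add] at h'
        exact one_ne_zero h'
      · intro v hv
        refine ⟨v + w, ?_, by simp [add_assoc, add_self]⟩
        show form m u (v + w) = 0
        rw [map_add, hw, (z2 _).resolve_left hv]
        decide
    rw [two_mul, ← hN, ← Set.ncard_add_ncard_compl K, ← h1,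
      Set.ncard_image_of_injective _ (add_left_injective w)]
  have hcount := S.toHyp.count S.mem hc hx.1
  rw [ha] at hcount
  have hpos : 0 < {v | indic D d c vec v = 1}.ncard :=
    ha ▸ (Set.ncard_pos).2 ⟨x, hx⟩
  generalize (dperp D d ∩ dperp D x).ncard = lam at *
  generalize (dperp D d).ncard = k at *
  generalize {v | indic D d c vec v = 1}.ncard = a at *
  generalize {v | indic D d c vec v = 0}.ncard = b at *
  generalize (aside D d).ncard = n at *
  generalize K.ncard = j at *
  generalize 4 ^ m = N at *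
  refine Nat.eq_of_mul_eq_mul_right hpos ?_
  zify at *
  refine mul_left_cancel₀ (two_ne_zero (α := ℤ)) ?_
  linear_combination 2 * hcount - hab - 2 * (k : ℤ) * hl - (k : ℤ) * hKhalf
    + (2 * (k : ℤ) + N) * hk

/-- A line with its coordinates. -/
theorem exists_line (S : Step D d) (hm : 2 ≤ m)
    {φ : G → Matrix.symplecticGroup (Fin m) (ZMod 2)} (C : Chart D d (tvs m) φ) :
    ∃ (c : G) (vec : G → Vec m) (Qw : QuadraticForm (ZMod 2) (Vec m)), Line D d c vec Qw := by
  classical
  obtain ⟨vec, V⟩ := exists_coord S C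
  obtain ⟨c, hc, hdc⟩ := S.toHyp.exists_not_commute S.mem
  have hc' : c ∈ aside D d := ⟨hc, hdc⟩
  have hq := V.quadratic S.group hm hc' (exists_common_mem S hc')
  let Qw : QuadraticForm (ZMod 2) (Vec m) :=
    { toFun := indic D d c vec
      toFun_smul := fun r v => by
        rcases z2 r with rfl | rfl <;> simp [V.indic_zero]
      exists_companion' := ⟨form m, hq⟩ }
  refine ⟨c, vec, Qw, V, S.group, S.mem, hc', fun v => rfl, fun u v => ?_,
    aside_count S V hm hc'⟩
  show indic D d c vec (u + v) - indic D d c vec u - indic D d c vec v = _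
  rw [hq]
  ring

theorem nondeg_ext {Qw : QuadraticForm (ZMod 2) (Vec m)} (hpol : ∀ u v, polar Qw u v = form m u v) :
    (polarBilin (extForm Qw)).Nondegenerate := by
  refine Quad.nondeg_of ?_
  rintro ⟨u, a, b⟩ h
  have h1 := h (0, (0, 1))
  have h2 := h (0, (1, 0))
  rw [polar_extForm, hpol, map_zero] at h1 h2
  simp only [mul_one, mul_zero, zero_mul, one_mul, add_zero, zero_add] at h1 h2
  have h3 : u = 0 := eq_of_form fun v => by
    have h4 := h (v, (0, 0))
    rw [polar_extForm, hpol] at h4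
    simpa using h4
  rw [h1, h2, h3]
  rfl

variable {ι : Type} [Fintype ι] [DecidableEq ι] {Q : QuadraticForm (ZMod 2) (ι → ZMod 2)}

omit [Finite G] in
/-- The transvections at the nonsingular vectors. -/
theorem exists_tvmap (hQ : (polarBilin Q).Nondegenerate) :
    ∃ T : (ι → ZMod 2) → ↥(Cfsg.isometryGroup (ZMod 2) ⇑Q),
      (∀ u, Q u = 1 → ∀ x, (T u).1.1 *ᵥ x = x + polar Q x u • u) ∧
      Set.BijOn T {u | Q u = 1} {g : ↥(Cfsg.isometryGroup (ZMod 2) ⇑Q) |
        (((g : GL ι (ZMod 2)) : Matrix ι ι (ZMod 2)) - 1).rank = 1} ∧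
      ∀ u, Q u = 1 → ∀ v, Q v = 1 → T (tr Q u v) = T u * T v * T u := by
  classical
  choose t _ hto hta using fun (u : ι → ZMod 2) (hu : Q u = 1) => ThreeTrans.OrthTwo.exists_tv hu
  let T : (ι → ZMod 2) → ↥(Cfsg.isometryGroup (ZMod 2) ⇑Q) := fun u =>
    if hu : Q u = 1 then (Quad.oEquiv Q).symm ⟨t u hu, hto u hu⟩ else 1
  have hT : ∀ u, Q u = 1 → ∀ x, (T u).1.1 *ᵥ x = x + polar Q x u • u := fun u hu x => by
    simp only [T, dif_pos hu]
    rw [← hta u hu, ← Quad.oEquiv_apply, MulEquiv.apply_symm_apply]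
  have hne : ∀ {u}, Q u = 1 → u ≠ 0 := fun hu h => by
    rw [h, map_zero] at hu; exact absurd hu (by decide)
  have hdual : ∀ {u}, Q u = 1 → ∃ y, polar Q y u = 1 := fun {u} hu => by
    by_contra hc
    push Not at hc
    exact hne hu (hQ.1 _ fun y => by
      rw [polarBilin_apply_apply, polar_comm]; exact (z2 _).resolve_right (hc y))
  have ext : ∀ a b : ↥(Cfsg.isometryGroup (ZMod 2) ⇑Q),
      (∀ x, a.1.1 *ᵥ x = b.1.1 *ᵥ x) → a = b :=
    fun a b h => Subtype.ext (Units.ext (ThreeTrans.eq_of_mulVec h))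
  refine ⟨T, hT, ⟨fun u hu => ?_, fun u hu v hv h => ?_, fun g hg => ?_⟩, fun u hu v hv => ?_⟩
  · exact ThreeTrans.rank_of_oneDir (hne hu) (φ := (polarBilin Q).flip u) (hdual hu) fun x => hT u hu x
  · obtain ⟨y, hy⟩ := hdual hu
    have e := (hT u hu y).symm.trans ((congrArg (fun g : ↥(Cfsg.isometryGroup (ZMod 2) ⇑Q) =>
      g.1.1 *ᵥ y) h).trans (hT v hv y))
    rw [hy, one_smul, add_right_inj] at e
    rcases z2 (polar Q y v) with e' | e' <;> rw [e'] at e
    · rw [zero_smul] at e; exact absurd e (hne hu)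
    · rwa [one_smul] at e
  · obtain ⟨u, φ, hu, hφ, hgu⟩ := ThreeTrans.exists_oneDir_of_rank hg
    obtain ⟨hQu, hφ'⟩ := ThreeTrans.eq_polar_of_isometry hQ (Quad.mem_isometryGroup_iff.1 g.2) hu hφ hgu
    exact ⟨u, hQu, ext _ _ fun x => by rw [hT u hQu, hgu x, hφ']⟩
  · refine ext _ _ fun x => ?_
    rw [hT _ (by rw [map_tr Q hu, hv])]
    simp only [Subgroup.coe_mul, Units.val_mul, ← Matrix.mulVec_mulVec]
    rw [hT u hu x, hT v hv, hT u hu]
    simp only [tr, polar_add_left, polar_add_right, polar_smul_left, polar_smul_right, smul_eq_mul,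
      ThreeTrans.OrthTwo.polar_self_zero, polar_comm Q v u, mul_zero, add_zero]
    funext i
    simp only [Pi.add_apply, Pi.smul_apply, smul_eq_mul]
    generalize polar Q x u = a
    generalize polar Q x v = b
    generalize polar Q u v = s
    generalize x i = p
    generalize u i = q
    generalize v i = r
    exact (by decide : ∀ a b s p q r : ZMod 2,
      p + (b + s * a) * (r + s * q) = p + a * q + (b + a * s) * r + (a + (b + a * s) * s) * q) a b s p q r

/-- The group is the isometry group of any copy of the larger space. -/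
theorem exists_equiv {Qw : QuadraticForm (ZMod 2) (Vec m)} (H : Hyp D) (L : Line D d c vec Qw)
    (hn : 5 ≤ Fintype.card ι) (e : Ext m ≃ₗ[ZMod 2] (ι → ZMod 2))
    (he : ∀ x, Q (e x) = extForm Qw x) :
    ∃ f : G ≃* ↥(Cfsg.isometryGroup (ZMod 2) ⇑Q), f '' D =
      {g : ↥(Cfsg.isometryGroup (ZMod 2) ⇑Q) |
        (((g : GL ι (ZMod 2)) : Matrix ι ι (ZMod 2)) - 1).rank = 1} := by
  classical
  have hpolar : ∀ x y, polar Q (e x) (e y) = polar (extForm Qw) x y := fun x y => by
    simp only [polar, ← map_add, he]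
  have hQ : (polarBilin Q).Nondegenerate := Quad.nondeg_of fun x hx => by
    obtain ⟨x, rfl⟩ := e.surjective x
    rw [Quad.eq_zero_of_polar (nondeg_ext L.pol) (x := x) fun y => by rw [← hpolar]; exact hx _,
      map_zero]
  obtain ⟨T, hT, hTb, hTc⟩ := exists_tvmap hQ
  have hE := ThreeTrans.class_toGroup (ThreeTrans.orth_class hQ hn)
  have hZ : Subgroup.center ↥(Cfsg.isometryGroup (ZMod 2) ⇑Q) = ⊥ := by
    rw [eq_bot_iff]
    intro z hz
    rw [Subgroup.mem_bot]
    have hfix : ∀ v, extForm Qw v = 1 → z.1.1 *ᵥ e v = e v := by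
      intro v hv
      set u := e v
      have hu : Q u = 1 := (he v).trans hv
      obtain ⟨y, hy⟩ : ∃ y, polar Q y u = 1 := by
        by_contra hcon
        push Not at hcon
        have h0 : u = 0 := Quad.eq_zero_of_polar hQ fun y => by
          rw [polar_comm]; exact (z2 _).resolve_right (hcon y)
        rw [h0, map_zero] at hu
        exact absurd hu (by decide)
      have h1 := congrArg (fun g : ↥(Cfsg.isometryGroup (ZMod 2) ⇑Q) => g.1.1 *ᵥ y)
        (Subgroup.mem_center_iff.1 hz (T u))
      simp only [Subgroup.coe_mul, Units.val_mul, ← Matrix.mulVec_mulVec] at h1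
      rw [hT u hu, hT u hu, hy, one_smul, Matrix.mulVec_add, add_right_inj] at h1
      rcases z2 (polar Q (z.1.1 *ᵥ y) u) with h2 | h2 <;> rw [h2] at h1
      · rw [zero_smul] at h1
        have h3 := Quad.mem_isometryGroup_iff.1 z.2 u
        rw [← h1, map_zero, hu] at h3
        exact absurd h3 (by decide)
      · rw [one_smul] at h1; exact h1.symm
    refine Subtype.ext (Units.ext (ThreeTrans.eq_of_mulVec fun y => ?_))
    rw [OneMemClass.coe_one, Units.val_one, Matrix.one_mulVec]
    obtain ⟨⟨w, a, b⟩, rfl⟩ := e.surjective y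
    have hdec : ((w, (a, b)) : Ext m) = (w, (1 + Qw w, 0)) + (1 + Qw w + a) • (0, (1, 0)) +
        b • (0, (0, 1)) := by
      simp only [Prod.smul_mk, Prod.mk_add_mk, smul_zero, add_zero, smul_eq_mul, mul_one, mul_zero,
        zero_add]
      rw [← add_assoc, CharTwo.add_self_eq_zero, zero_add]
    have hp : extForm Qw ((0 : Vec m), ((1 : ZMod 2), (0 : ZMod 2))) = 1 := by
      rw [extForm_apply, map_zero]; decide
    have hr : extForm Qw ((0 : Vec m), ((0 : ZMod 2), (1 : ZMod 2))) = 1 := by
      rw [extForm_apply, map_zero]; decide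
    have hw : extForm Qw (w, (1 + Qw w, (0 : ZMod 2))) = 1 := by
      rw [extForm_apply]
      generalize Qw w = q
      revert q
      decide
    rw [hdec, map_add, map_add, map_smul, map_smul, Matrix.mulVec_add, Matrix.mulVec_add,
      Matrix.mulVec_smul, Matrix.mulVec_smul, hfix _ hw, hfix _ hp, hfix _ hr]
  -- the members go to their transvections
  have hP := L.point_bij
  set pt := Function.invFunOn (point D d c vec) {v | extForm Qw v = 1} with hpt
  have hinv := hP.invOn_invFunOn
  have hptb : Set.BijOn pt D {v | extForm Qw v = 1} := hP.symm hinv.symm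
  have heb : Set.BijOn e {v | extForm Qw v = 1} {u | Q u = 1} := by
    refine ⟨fun v hv => (he v).trans hv, e.injective.injOn, fun u hu => ?_⟩
    obtain ⟨v, rfl⟩ := e.surjective u
    exact ⟨v, (he v).symm.trans hu, rfl⟩
  obtain ⟨f, hf, -⟩ := equiv_of_bij L.grp H.center_eq_bot hE hZ (hTb.comp (heb.comp hptb))
    fun x hx y hy => by
      obtain ⟨u, hu, rfl⟩ := hP.surjOn hx
      obtain ⟨v, hv, rfl⟩ := hP.surjOn hy
      have huv : tr (extForm Qw) u v ∈ {w | extForm Qw w = 1} := (map_tr _ hu v).trans hv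
      simp only [Function.comp_apply]
      rw [← L.point_tr hu v hv, hpt, hinv.1 huv, hinv.1 hu, hinv.1 hv]
      rw [show e (tr (extForm Qw) u v) = tr Q (e u) (e v) by
        simp only [tr, map_add, map_smul, hpolar]]
      exact hTc _ ((he u).trans hu) _ ((he v).trans hv)
  exact ⟨f, hf⟩

end FischerThm.SympCase

namespace FischerThm

open SympCase in
/-- Symplectic groups below: `D` is orthogonal over two elements, two dimensions up. -/
theorem symp {G : Type*} [Group G] [Finite G] {D : Set G} {d : G} {m : ℕ} (S : Step D d)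
    (hm : 2 ≤ m) (h : SpAt (lowSet D d) m) : OPlusAt D (m + 1) ∨ OMinusAt D m := by
  classical
  obtain ⟨φ, C⟩ := S.exists_chart (E := tvs m) h
  obtain ⟨c, vec, Qw, L⟩ := exists_line S hm C
  have hdim : Module.finrank (ZMod 2) (Ext m) = 2 * (m + 1) := by
    simp [Module.finrank_prod, Module.finrank_fintype_fun_eq_card]; omega
  rcases Quad.even_cases (nondeg_ext L.pol) hdim with ⟨e, he⟩ | ⟨-, he⟩
  · left
    let Q : QuadraticForm (ZMod 2) (Fin (m + 1) ⊕ Fin (m + 1) → ZMod 2) :=
      (Quad.hyp (Quad.zeroForm (ZMod 2)) (m + 1)).comp (Quad.plusCoord (m + 1)).toLinearMap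
    have hQ : ⇑Q = Cfsg.quadFormPlus (m + 1) (ZMod 2) := funext fun v => Quad.plusCoord_map _ v
    have := exists_equiv (Q := Q) S.toHyp L (by simp; omega)
      (e.symm.trans (Quad.plusCoord (m + 1)).symm) (fun x => by
        have := he (e.symm x)
        rw [e.apply_symm_apply] at this
        simp [Q, this])
    rw [hQ] at this
    exact this
  · right
    obtain ⟨e, he⟩ := he 1 1 (by decide)
    let Q : QuadraticForm (ZMod 2) ((Fin m ⊕ Fin m) ⊕ Fin 2 → ZMod 2) :=
      (Quad.hyp (Quad.binForm (1 : ZMod 2) 1) m).comp (Quad.minusCoord m).toLinearMap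
    have hQ : ⇑Q = Cfsg.quadFormMinus m (ZMod 2) 1 1 := funext fun v => Quad.minusCoord_map 1 1 m v
    have := exists_equiv (Q := Q) S.toHyp L (by simp; omega)
      (e.symm.trans (Quad.minusCoord m).symm) (fun x => by
        have := he (e.symm x)
        rw [e.apply_symm_apply] at this
        simp [Q, this])
    rw [hQ] at this
    exact this

end FischerThm

end Cfsg.Agent
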