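import Cfsg.Agent.ThreeTrans.Param
import Cfsg.Agent.ThreeTrans.OrthTwo
import Cfsg.Agent.Classical.SympGroup

/-!
# The symplectic transvections over two elements as the nonzero vectors
-/

set_option autoImplicit false

open Cfsg
open scoped Matrix

namespace Cfsg.Agent.FischerThm.SympCase

variable {m : ℕ}

/-- The coordinate space. -/
abbrev Vec (m : ℕ) : Type := Fin m ⊕ Fin m → ZMod 2

/-- The alternating form. -/
noncomputable abbrev form (m : ℕ) : LinearMap.BilinForm (ZMod 2) (Vec m) :=
  Classical.sympB m (ZMod 2)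

theorem z2 (a : ZMod 2) : a = 0 ∨ a = 1 := ThreeTrans.OrthTwo.z2 a

theorem form_self (v : Vec m) : form m v v = 0 := Classical.sympB_isAlt v

theorem form_comm (u v : Vec m) : form m u v = form m v u := by
  rw [Classical.Alt.neg' Classical.sympB_isAlt v u, ZModModule.neg_eq_self]

theorem add_self (v : Vec m) : v + v = 0 := ZModModule.add_self v

theorem eq_of_form {u v : Vec m} (h : ∀ w, form m u w = form m v w) : u = v := by
  have h0 : u + v = 0 := Classical.sympB_nondeg.1 (u + v) fun w => by
    rw [map_add, LinearMap.add_apply, h w]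
    exact CharTwo.add_self_eq_zero _
  exact (eq_neg_of_add_eq_zero_left h0).trans (ZModModule.neg_eq_self v)

theorem exists_form_one {v : Vec m} (hv : v ≠ 0) : ∃ w, form m v w = 1 := by
  by_contra hc
  push Not at hc
  exact hv (Classical.sympB_nondeg.1 v fun w => (z2 _).resolve_right (hc w))

/-- The transvections of the symplectic group. -/
def tvs (m : ℕ) : Set (Matrix.symplecticGroup (Fin m) (ZMod 2)) :=
  {g : Matrix.symplecticGroup (Fin m) (ZMod 2) |
    ((g : Matrix (Fin m ⊕ Fin m) (Fin m ⊕ Fin m) (ZMod 2)) - 1).rank = 1}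

/-- The transvections as nonzero vectors. -/
theorem exists_vec : ∃ π : Matrix.symplecticGroup (Fin m) (ZMod 2) → Vec m,
    Set.BijOn π (tvs m) {v | v ≠ 0} ∧
    (∀ g ∈ tvs m, ∀ h ∈ tvs m, Commute g h ↔ form m (π g) (π h) = 0) ∧
    ∀ g ∈ tvs m, ∀ h ∈ tvs m, g * h * g ∈ tvs m →
      π (g * h * g) = π h + form m (π g) (π h) • π g := by
  classical
  let Is : Matrix.symplecticGroup (Fin m) (ZMod 2) → Vec m → Prop := fun g v =>
    v ≠ 0 ∧ ∀ x, g.1 *ᵥ x = x + form m v x • v
  have hex : ∀ g ∈ tvs m, ∃ v, Is g v := by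
    intro g hg
    obtain ⟨v, φ, hv, ⟨x, hx⟩, hgv⟩ := ThreeTrans.exists_oneDir_of_rank hg
    refine ⟨v, hv, fun y => ?_⟩
    have hiso : ∀ a b, φ a * form m v b + φ b * form m a v = 0 := by
      intro a b
      have h := (Classical.mem_symplectic_iff g.1).1 g.2 a b
      rw [hgv, hgv] at h
      simp only [map_add, map_smul, LinearMap.add_apply, LinearMap.smul_apply, smul_eq_mul] at h
      have hvv : Classical.sympB m (ZMod 2) v v = 0 := form_self v
      linear_combination h - φ a * φ b * hvv
    have h1 : form m x v = 1 := by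
      refine (z2 _).resolve_left fun hc => hv (Classical.sympB_nondeg.1 v fun b => ?_)
      have h := hiso x b
      rwa [hx, hc, one_mul, mul_zero, add_zero] at h
    have h := hiso x y
    rw [hx, one_mul, h1, mul_one] at h
    rw [hgv y, eq_neg_of_add_eq_zero_left h, ZModModule.neg_eq_self]
  have huniq : ∀ g v v', Is g v → Is g v' → v = v' := by
    intro g v v' h h'
    obtain ⟨y, hy⟩ := exists_form_one h.1
    have e := (h.2 y).symm.trans (h'.2 y)
    rw [hy, one_smul, add_right_inj] at e
    rcases z2 (form m v' y) with e' | e' <;> rw [e'] at e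
    · rw [zero_smul] at e; exact absurd e h.1
    · rwa [one_smul] at e
  have ext : ∀ a b : Matrix.symplecticGroup (Fin m) (ZMod 2), (∀ x, a.1 *ᵥ x = b.1 *ᵥ x) → a = b :=
    fun a b h => Subtype.ext (ThreeTrans.eq_of_mulVec h)
  have hmul : ∀ (a b : Matrix.symplecticGroup (Fin m) (ZMod 2)) x,
      (a * b).1 *ᵥ x = a.1 *ᵥ (b.1 *ᵥ x) := fun a b x => by
    rw [Submonoid.coe_mul, Matrix.mulVec_mulVec]
  let π : Matrix.symplecticGroup (Fin m) (ZMod 2) → Vec m :=
    fun g => if h : ∃ v, Is g v then h.choose else 0
  have hπ : ∀ g ∈ tvs m, Is g (π g) := fun g hg => by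
    simp only [π, dif_pos (hex g hg)]
    exact (hex g hg).choose_spec
  refine ⟨π, ⟨fun g hg => (hπ g hg).1, fun g hg h hh he => ext g h fun x => ?_, fun v hv => ?_⟩, ?_, ?_⟩
  · rw [(hπ g hg).2, (hπ h hh).2, he]
  · let t : Matrix.symplecticGroup (Fin m) (ZMod 2) :=
      ⟨_, Classical.sympTransvection_mem (F := ZMod 2) v 1⟩
    have ht : ∀ x, t.1 *ᵥ x = x + form m v x • v := fun x => by
      rw [Classical.sympTransvection_mulVec, one_mul, form_comm v x]
    have hrank : t ∈ tvs m :=
      ThreeTrans.rank_of_oneDir hv (φ := form m v) (exists_form_one hv) ht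
    exact ⟨t, hrank, huniq t _ _ (hπ t hrank) ⟨hv, ht⟩⟩
  · intro g hg h hh
    obtain ⟨hu, hgu⟩ := hπ g hg
    obtain ⟨hv, hhv⟩ := hπ h hh
    set u := π g
    set v := π h
    constructor
    · intro hc
      refine (z2 _).resolve_right fun h1 => hu ?_
      have e := congrArg (fun z : Matrix.symplecticGroup (Fin m) (ZMod 2) => z.1 *ᵥ u) hc.eq
      simp only [hmul] at e
      rw [hhv u, form_comm v u, h1, one_smul, hgu, hgu u, map_add, form_self, h1, zero_smul, add_zero,
        zero_add, one_smul, hhv u, form_comm v u, h1, one_smul, add_eq_left] at e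
      exact e
    · intro h0
      refine ext _ _ fun x => ?_
      rw [hmul, hmul, hhv x, hgu x, hgu, hhv, map_add, map_add, map_smul, map_smul, h0,
        form_comm v u, h0, smul_zero, smul_zero, add_zero, add_zero, add_right_comm]
  · intro g hg h hh hgh
    obtain ⟨hu, hgu⟩ := hπ g hg
    obtain ⟨hv, hhv⟩ := hπ h hh
    set u := π g
    set v := π h
    refine huniq _ _ _ (hπ _ hgh) ⟨fun h0 => ?_, fun x => ?_⟩
    · rcases z2 (form m u v) with e | e <;> rw [e] at h0
      · rw [zero_smul, add_zero] at h0; exact hv h0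
      · rw [one_smul] at h0
        have huv : v = u := (eq_neg_of_add_eq_zero_left h0).trans (ZModModule.neg_eq_self u)
        rw [huv, form_self] at e
        exact zero_ne_one e
    · rw [hmul, hmul, hgu x, hhv, hgu]
      simp only [map_add, map_smul, LinearMap.add_apply, LinearMap.smul_apply, smul_eq_mul,
        form_self, form_comm v u, mul_zero, add_zero]
      funext i
      simp only [Pi.add_apply, Pi.smul_apply, smul_eq_mul]
      generalize form m u x = a
      generalize form m v x = b
      generalize form m u v = c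
      generalize x i = p
      generalize u i = q
      generalize v i = r
      revert a b c p q r
      decide

end Cfsg.Agent.FischerThm.SympCase
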