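import Cfsg.Agent.FischerThm.Local.Recognize
import Cfsg.Agent.FischerThm.Symp.Vectors

/-!
# The common partners as the values one of a quadratic form

In vector coordinates the common partners of a line contain exactly one of `v`, `v + y` for `v`
orthogonal to a member `y`; with closedness this makes their indicator quadratic.
-/

set_option autoImplicit false

open Cfsg
open Cfsg.Agent.ThreeTrans (dperp)

namespace Cfsg.Agent.FischerThm.SympCase

variable {G : Type*} [Group G] {D : Set G} {d c : G} {m : ℕ}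

/-- Vector coordinates on the partners of `d`. -/
structure Coord (D : Set G) (d : G) (m : ℕ) (vec : G → Vec m) : Prop where
  bij : Set.BijOn vec (dperp D d) {v | v ≠ 0}
  comm : ∀ a ∈ dperp D d, ∀ b ∈ dperp D d, Commute a b ↔ form m (vec a) (vec b) = 0
  conj : ∀ a ∈ dperp D d, ∀ b ∈ dperp D d,
    vec (a * b * a) = vec b + form m (vec a) (vec b) • vec a
  half : ∀ c ∈ aside D d, ∀ x ∈ common D d c, ∀ z ∈ dperp D d ∩ dperp D x,
    ∀ z' ∈ dperp D d ∩ dperp D x, vec z' = vec z + vec x →
      (z' ∈ common D d c ↔ z ∉ common D d c)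

/-- A chart onto the symplectic transvections gives vector coordinates. -/
theorem exists_coord [Finite G] (S : Step D d)
    {φ : G → Matrix.symplecticGroup (Fin m) (ZMod 2)} (C : Chart D d (tvs m) φ) :
    ∃ vec : G → Vec m, Coord D d m vec := by
  obtain ⟨π, hπ, hπc, hπj⟩ := exists_vec (m := m)
  have hcomm : ∀ a ∈ dperp D d, ∀ b ∈ dperp D d, Commute a b ↔ form m (π (φ a)) (π (φ b)) = 0 :=
    fun a ha b hb => by rw [← hπc _ (C.mem ha) _ (C.mem hb), C.comm a ha b hb]
  refine ⟨fun a => π (φ a), ⟨hπ.comp C.bij, hcomm, fun a ha b hb => ?_, ?_⟩⟩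
  · show π (φ (a * b * a)) = _
    rw [C.conj a ha b hb]
    exact hπj _ (C.mem ha) _ (C.mem hb) (C.conj a ha b hb ▸ C.mem (dperp_closed S.group d a ha b hb))
  intro c hc x hx z hz z' hz' hzz
  obtain ⟨a, ha, c', hc', ψ, hψ, hψc, -, hiff⟩ := S.local_common C hc hx
  have hB : form m (π a) (π c') = 1 :=
    (z2 _).resolve_left fun h => hc'.2 ((hπc a ha c' hc'.1).2 h)
  have hzE := (C.mem_dperp_iff hx.1 hz.1).2 hz.2
  have hzE' := (C.mem_dperp_iff hx.1 hz'.1).2 hz'.2
  set e := ψ (φ z)
  set e' := ψ (φ z')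
  have heE := hψ.mapsTo hzE
  have heE' := hψ.mapsTo hzE'
  -- the two rows agree on the hyperplane of `a`
  have hrow : ∀ f, form m (π a) f = 0 → form m (π e + π e') f = 0 := by
    intro f hf
    by_cases hf0 : f = 0
    · rw [hf0, map_zero]
    obtain ⟨g, hg, rfl⟩ := hπ.surjOn hf0
    by_cases hga : g = a
    · rw [hga, map_add, LinearMap.add_apply, (hπc _ heE.1 _ ha).1 heE.2.2.symm,
        (hπc _ heE'.1 _ ha).1 heE'.2.2.symm, add_zero]
    obtain ⟨h, hh, hhg⟩ := hψ.surjOn (⟨hg, hga, (hπc _ ha _ hg).2 hf⟩ : g ∈ dperp (tvs m) a)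
    obtain ⟨w, hw, rfl⟩ := (C.bijOn_dperp hx.1).surjOn hh
    have h1 : form m (π e) (π g) = form m (π (φ z)) (π (φ w)) := by
      have k1 := hψc _ hzE _ hh
      rw [hhg, hπc _ heE.1 _ hg, hπc _ hzE.1 _ hh.1] at k1
      rcases z2 (form m (π e) (π g)) with e1 | e1 <;>
        rcases z2 (form m (π (φ z)) (π (φ w))) with e2 | e2 <;> rw [e1, e2] at k1 <;> rw [e1, e2]
      · exact absurd (k1.1 rfl) one_ne_zero
      · exact absurd (k1.2 rfl) one_ne_zero
    have h2 : form m (π e') (π g) = form m (π (φ z')) (π (φ w)) := by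
      have k1 := hψc _ hzE' _ hh
      rw [hhg, hπc _ heE'.1 _ hg, hπc _ hzE'.1 _ hh.1] at k1
      rcases z2 (form m (π e') (π g)) with e1 | e1 <;>
        rcases z2 (form m (π (φ z')) (π (φ w))) with e2 | e2 <;> rw [e1, e2] at k1 <;> rw [e1, e2]
      · exact absurd (k1.1 rfl) one_ne_zero
      · exact absurd (k1.2 rfl) one_ne_zero
    have h3 : form m (π (φ x)) (π (φ w)) = 0 :=
      (hcomm x hx.1 w hw.1).1 hw.2.2.2
    rw [map_add, LinearMap.add_apply, h1, h2, hzz, map_add, LinearMap.add_apply, h3, add_zero]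
    exact CharTwo.add_self_eq_zero _
  have hsum : π e + π e' = form m (π e + π e') (π c') • π a := by
    refine eq_of_form fun f => ?_
    have h := hrow (f + form m (π a) f • π c') (by
      rw [map_add, map_smul, hB, smul_eq_mul, mul_one]
      exact CharTwo.add_self_eq_zero _)
    rw [map_add, map_smul, smul_eq_mul, add_eq_zero_iff_eq_neg, ZModModule.neg_eq_self] at h
    rw [LinearMap.map_smul, LinearMap.smul_apply, smul_eq_mul, h, mul_comm]
  have hne : e ≠ e' := fun h => by
    have h1 := C.inj hz.1 hz'.1 (hψ.injOn hzE hzE' h)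
    rw [← h1] at hzz
    have h0 : π (φ x) = 0 := by
      have : π (φ z) = π (φ z) + π (φ x) := hzz
      exact left_eq_add.1 this
    exact hπ.mapsTo (C.mem hx.1) h0
  have h1 : form m (π e + π e') (π c') = 1 := by
    refine (z2 _).resolve_left fun h0 => hne ?_
    rw [h0, zero_smul] at hsum
    exact hπ.injOn heE.1 heE'.1 ((eq_neg_of_add_eq_zero_left hsum).trans (ZModModule.neg_eq_self _))
  have key : ∀ g ∈ dperp (tvs m) a, (g ∈ dperp (tvs m) c' ↔ form m (π g) (π c') = 0) := by
    intro g hg
    refine ⟨fun h => (hπc _ hg.1 _ hc'.1).1 h.2.2.symm, fun h =>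
      ⟨hg.1, fun he => hc'.2 (he ▸ hg.2.2), ((hπc _ hg.1 _ hc'.1).2 h).symm⟩⟩
  rw [hiff z hz, hiff z' hz', key _ heE, key _ heE']
  rw [map_add, LinearMap.add_apply] at h1
  rcases z2 (form m (π e) (π c')) with e1 | e1 <;>
    rcases z2 (form m (π e') (π c')) with e2 | e2 <;> rw [e1, e2] at h1 ⊢ <;> simp at h1 ⊢

variable {vec : G → Vec m}

open scoped _root_.Classical in
/-- The indicator of the common partners. -/
noncomputable def indic (D : Set G) (d c : G) (vec : G → Vec m) (v : Vec m) : ZMod 2 :=
  if v ∈ vec '' common D d c then 1 else 0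

theorem indic_eq_one {v : Vec m} : indic D d c vec v = 1 ↔ v ∈ vec '' common D d c := by
  unfold indic
  split_ifs with h <;> simp [h]

namespace Coord

variable (V : Coord D d m vec)
include V

theorem ne_zero {a : G} (ha : a ∈ dperp D d) : vec a ≠ 0 := V.bij.mapsTo ha

theorem inj {a b : G} (ha : a ∈ dperp D d) (hb : b ∈ dperp D d) (h : vec a = vec b) : a = b :=
  V.bij.injOn ha hb h

theorem exists_eq {v : Vec m} (hv : v ≠ 0) : ∃ a ∈ dperp D d, vec a = v := V.bij.surjOn hv

theorem indic_vec {a : G} (ha : a ∈ dperp D d) :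
    indic D d c vec (vec a) = 1 ↔ a ∈ common D d c := by
  rw [indic_eq_one]
  refine ⟨fun ⟨z, hz, he⟩ => ?_, fun h => ⟨a, h, rfl⟩⟩
  rwa [← V.inj hz.1 ha he]

theorem indic_zero : indic D d c vec 0 = 0 := by
  refine (z2 _).resolve_right fun h => ?_
  obtain ⟨z, hz, he⟩ := indic_eq_one.1 h
  exact V.ne_zero hz.1 he

variable (hD : IsThreeTranspositionGroup D) (hm : 2 ≤ m) (hc : c ∈ aside D d)
  (hne : (common D d c).Nonempty)
include hD hm hc hne

omit hD hne hm in
/-- Exactly one of `v`, `v + y`. -/
theorem half_vec {y v : Vec m} (hy : indic D d c vec y = 1) (hv : form m y v = 0) (h0 : v ≠ 0)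
    (h1 : v ≠ y) : indic D d c vec (v + y) = 1 + indic D d c vec v := by
  obtain ⟨x, hx, rfl⟩ := indic_eq_one.1 hy
  obtain ⟨z, hz, rfl⟩ := V.exists_eq h0
  have h2 : vec z + vec x ≠ 0 := fun h =>
    h1 ((eq_neg_of_add_eq_zero_left h).trans (ZModModule.neg_eq_self _))
  obtain ⟨z', hz', he⟩ := V.exists_eq h2
  have hzx : z ∈ dperp D x := ⟨hz.1, fun h => h1 (by rw [h]), (V.comm x hx.1 z hz).2 hv⟩
  have hzx' : z' ∈ dperp D x := by
    refine ⟨hz'.1, fun h => h0 ?_, (V.comm x hx.1 z' hz').2 ?_⟩
    · rw [h] at he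
      exact right_eq_add.1 he
    · rw [he, map_add, hv, form_self, add_zero]
  have h := V.half c hc x hx z ⟨hz, hzx⟩ z' ⟨hz', hzx'⟩ he
  rw [← he]
  by_cases hzS : z ∈ common D d c
  · rw [(z2 (indic D d c vec (vec z'))).resolve_right fun e => (h.1 ((V.indic_vec hz').1 e)) hzS,
      (V.indic_vec hz).2 hzS]
    decide
  · rw [(V.indic_vec hz').2 (h.2 hzS), (z2 (indic D d c vec (vec z))).resolve_right
      fun e => hzS ((V.indic_vec hz).1 e), add_zero]

omit hm hne hc in
theorem closed_vec {y v : Vec m} (hy : indic D d c vec y = 1) (hv : indic D d c vec v = 1)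
    (hyv : form m y v = 1) : indic D d c vec (v + y) = 1 := by
  obtain ⟨x, hx, rfl⟩ := indic_eq_one.1 hy
  obtain ⟨z, hz, rfl⟩ := indic_eq_one.1 hv
  refine indic_eq_one.2 ⟨x * z * x, common_closed hD d c x hx z hz, ?_⟩
  rw [V.conj x hx.1 z hz.1, hyv, one_smul]

omit hne hm in
/-- Translation by a member. -/
theorem translate {y : Vec m} (hy : indic D d c vec y = 1) (v : Vec m) :
    indic D d c vec (y + v) = indic D d c vec y + indic D d c vec v + form m y v := by
  rw [hy, add_comm y v]
  rcases z2 (form m y v) with hB | hB <;> rw [hB]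
  · by_cases h0 : v = 0
    · rw [h0, zero_add, hy, V.indic_zero]; decide
    by_cases h1 : v = y
    · rw [h1, add_self, V.indic_zero, hy]; decide
    rw [V.half_vec hc hy hB h0 h1, add_zero]
  · rcases z2 (indic D d c vec v) with hv | hv <;> rw [hv]
    · refine (z2 _).resolve_right fun h => ?_
      have h2 := V.closed_vec hD hy h (by rw [map_add, hB, form_self, add_zero])
      rw [add_assoc, add_self, add_zero, hv] at h2
      exact zero_ne_one h2
    · rw [V.closed_vec hD hy hv hB]; decide

/-- The indicator is a quadratic form with the given polar form. -/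
theorem quadratic (u v : Vec m) :
    indic D d c vec (u + v) = indic D d c vec u + indic D d c vec v + form m u v := by
  let L : AddSubmonoid (Vec m) :=
    { carrier := {u | ∀ v, indic D d c vec (u + v) =
        indic D d c vec u + indic D d c vec v + form m u v}
      zero_mem' := fun v => by
        simp [V.indic_zero]
      add_mem' := fun {a b} ha hb v => by
        rw [add_assoc, ha, hb v, ha b, map_add (form m a), map_add (form m), LinearMap.add_apply]
        ring }
  suffices hu : u ∈ L from hu v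
  set U := Submodule.span (ZMod 2) (vec '' common D d c) with hU
  have hUL : ∀ w ∈ U, w ∈ L := by
    intro w hw
    induction hw using Submodule.span_induction with
    | mem w hw => exact V.translate hD hc (indic_eq_one.2 hw)
    | zero => exact L.zero_mem
    | add a b _ _ ha hb => exact L.add_mem ha hb
    | smul r a _ ha =>
      rcases z2 r with rfl | rfl
      · rw [zero_smul]; exact L.zero_mem
      · rwa [one_smul]
  suffices htop : U = ⊤ from hUL u (htop ▸ Submodule.mem_top)
  by_contra hne'
  obtain ⟨f, hf0, hfU⟩ := Submodule.exists_le_ker_of_lt_top U (lt_top_iff_ne_top.2 hne')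
  set z := (LinearMap.BilinForm.toDual (form m) Classical.sympB_nondeg).symm f with hz
  have hzf : ∀ w, form m z w = f w := fun w => by
    rw [hz]; exact LinearMap.BilinForm.apply_toDual_symm_apply (B := form m) f w
  have hz0 : z ≠ 0 := fun h => hf0 (LinearMap.ext fun w => by
    rw [← hzf, h, map_zero])
  have hperp : ∀ y, indic D d c vec y = 1 → form m z y = 0 := fun y hy => by
    rw [hzf]
    exact LinearMap.mem_ker.1 (hfU (Submodule.subset_span (indic_eq_one.1 hy)))
  obtain ⟨x, hx⟩ := hne
  -- a member different from `z`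
  obtain ⟨y, hy, hyz⟩ : ∃ y, indic D d c vec y = 1 ∧ y ≠ z := by
    by_cases hxz : vec x = z
    · have hy := (V.indic_vec hx.1).2 hx
      obtain ⟨w, hw⟩ := exists_form_one hz0
      obtain ⟨p, -, hp⟩ : ∃ p ∈ (Finset.univ : Finset (Vec m)),
          p ∉ ({0, z, w, z + w} : Finset (Vec m)) := by
        refine Finset.exists_mem_notMem_of_card_lt_card (lt_of_le_of_lt Finset.card_le_four ?_)
        rw [Finset.card_univ, Fintype.card_fun, ZMod.card, Fintype.card_sum, Fintype.card_fin]
        calc (4 : ℕ) < 2 ^ 4 := by norm_num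
          _ ≤ 2 ^ (m + m) := Nat.pow_le_pow_right (by norm_num) (by omega)
      simp only [Finset.mem_insert, Finset.mem_singleton, not_or] at hp
      set v := p + form m z p • w with hv
      have hzv : form m z v = 0 := by
        rw [hv, map_add, map_smul, hw, smul_eq_mul, mul_one]
        exact CharTwo.add_self_eq_zero _
      have hpv : p = v + form m z p • w := by rw [hv, add_assoc, add_self, add_zero]
      have hv0 : v ≠ 0 := fun h => by
        rw [h, zero_add] at hpv
        rcases z2 (form m z p) with e | e <;> rw [e] at hpv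
        · rw [zero_smul] at hpv; exact hp.1 hpv
        · rw [one_smul] at hpv; exact hp.2.2.1 hpv
      have hvz : v ≠ z := fun h => by
        rw [h] at hpv
        rcases z2 (form m z p) with e | e <;> rw [e] at hpv
        · rw [zero_smul, add_zero] at hpv; exact hp.2.1 hpv
        · rw [one_smul] at hpv; exact hp.2.2.2 hpv
      rw [hxz] at hy
      have h := V.half_vec hc hy hzv hv0 hvz
      rcases z2 (indic D d c vec v) with e | e
      · rw [e, add_zero] at h
        exact ⟨_, h, fun he => hv0 (add_eq_right.1 he)⟩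
      · exact ⟨v, e, hvz⟩
    · exact ⟨vec x, (V.indic_vec hx.1).2 hx, hxz⟩
  -- a vector orthogonal to `y` only
  obtain ⟨v, hyv, hzv⟩ : ∃ v, form m y v = 0 ∧ form m z v = 1 := by
    obtain ⟨w, hw⟩ := exists_form_one hz0
    rcases z2 (form m y w) with e | e
    · exact ⟨w, e, hw⟩
    obtain ⟨w', hw'⟩ : ∃ w', form m y w' ≠ form m z w' := by
      by_contra hcon
      push Not at hcon
      exact hyz (eq_of_form hcon)
    rcases z2 (form m y w') with e1 | e1 <;> rcases z2 (form m z w') with e2 | e2
    · exact absurd (e1.trans e2.symm) hw'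
    · exact ⟨w', e1, e2⟩
    · exact ⟨w + w', by rw [map_add, e, e1]; decide, by rw [map_add, hw, e2, add_zero]⟩
    · exact absurd (e1.trans e2.symm) hw'
  have h0 : v ≠ 0 := fun h => by rw [h, map_zero] at hzv; exact zero_ne_one hzv
  have h1 : v ≠ y := fun h => by
    have := hperp y hy
    rw [← h, hzv] at this
    exact one_ne_zero this
  have h := V.half_vec hc hy hyv h0 h1
  rcases z2 (indic D d c vec v) with e | e
  · rw [e, add_zero] at h
    have := hperp _ h
    rw [map_add, hzv, hperp y hy, add_zero] at this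
    exact one_ne_zero this
  · have := hperp _ e
    rw [hzv] at this
    exact one_ne_zero this

end Coord

/-- The numbers of zeros and ones of a quadratic form with this polar form. -/
theorem ncard_mul {q : Vec m → ZMod 2} (h0 : q 0 = 0)
    (hq : ∀ u v, q (u + v) = q u + q v + form m u v) :
    4 * ({v | q v = 1}.ncard * {v | q v = 0}.ncard) + 4 ^ m = 4 ^ m * 4 ^ m ∧
      {v | q v = 1}.ncard + {v | q v = 0}.ncard = 4 ^ m := by
  classical
  set a := {v | q v = 1}.ncard with ha
  set b := {v | q v = 0}.ncard with hb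
  let χ : ZMod 2 → ℤ := fun t => if t = 0 then 1 else -1
  have hχ : ∀ s t, χ (s + t) = χ s * χ t := by decide
  let s : Vec m → ℤ := fun v => χ (q v)
  have hN : (Fintype.card (Vec m) : ℤ) = 4 ^ m := by
    rw [Fintype.card_fun, ZMod.card, Fintype.card_sum, Fintype.card_fin, ← two_mul, pow_mul]
    norm_num
  have hab : a + b = 4 ^ m := by
    have h1 : {v | q v = 0} = {v | q v = 1}ᶜ := by
      ext v
      rcases z2 (q v) with e | e <;> simp [e]
    have h2 := Set.ncard_add_ncard_compl {v | q v = 1}
    rw [← h1, Nat.card_eq_fintype_card] at h2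
    rw [ha, hb]
    have h3 : (Fintype.card (Vec m) : ℤ) = ((4 ^ m : ℕ) : ℤ) := by rw [hN]; push_cast; ring
    omega
  have hsum : ∑ v, s v = (b : ℤ) - a := by
    have h1 : ∀ v, s v = (if q v = 0 then 1 else 0) - if q v = 1 then 1 else 0 := fun v => by
      rcases z2 (q v) with e | e <;> simp [s, χ, e]
    simp only [h1, Finset.sum_sub_distrib, Finset.sum_boole]
    rw [ha, hb, Set.ncard_eq_toFinset_card', Set.ncard_eq_toFinset_card']
    simp
  have horth : ∀ z : Vec m, z ≠ 0 → ∑ u, χ (form m u z) = 0 := by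
    intro z hz
    obtain ⟨w, hw⟩ := exists_form_one hz
    have h := Equiv.sum_comp (Equiv.addRight w) fun u => χ (form m u z)
    simp only [Equiv.coe_addRight, map_add, LinearMap.add_apply, form_comm w z, hw, hχ] at h
    rw [← Finset.sum_mul] at h
    have : χ 1 = -1 := by decide
    rw [this, mul_neg, mul_one] at h
    linarith
  have hsq : (∑ v, s v) * ∑ v, s v = (4 : ℤ) ^ m := by
    rw [Finset.sum_mul_sum]
    have h1 : ∀ u : Vec m, ∑ v, s u * s v = ∑ z, s z * χ (form m u z) := by
      intro u
      rw [← Equiv.sum_comp (Equiv.addLeft u) fun v => s u * s v]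
      refine Finset.sum_congr rfl fun z _ => ?_
      simp only [Equiv.coe_addLeft, s, hq, hχ]
      rcases z2 (q u) with e | e <;> simp [χ, e]
    simp only [h1]
    rw [Finset.sum_comm, Finset.sum_eq_single (0 : Vec m)]
    · simp [s, h0, χ, ← two_mul, pow_mul]
    · intro z _ hz
      rw [← Finset.mul_sum, horth z hz, mul_zero]
    · simp
  refine ⟨?_, hab⟩
  rw [hsum] at hsq
  have hab' : (a : ℤ) + b = 4 ^ m := by exact_mod_cast hab
  have : (4 : ℤ) * (a * b) + 4 ^ m = 4 ^ m * 4 ^ m := by
    linear_combination (a + b + (4 : ℤ) ^ m) * hab' - hsq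
  exact_mod_cast this

end Cfsg.Agent.FischerThm.SympCase
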