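import Cfsg.Agent.FischerThm.Symp.Form
import Cfsg.Agent.Classical.QuadStd
import Cfsg.Agent.Classical.QuadTypes

/-!
# The members as the nonsingular vectors of a space two dimensions larger

`point` sends `(0,(1,0))` to `d`, `(w,(a,0))` to the partner with vector `w`, and the vectors with
last coordinate one to the members not commuting with `d`. It is onto by counting, and it carries
transvection moves to conjugation, because it does so for `d`, `c` and the partners.
-/

set_option autoImplicit false

open Cfsg
open Cfsg.Agent.ThreeTrans (dperp braid mul_self mul_self_mul mul_mul_self conj_self_of_commute)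
open QuadraticMap Cfsg.Agent.Classical

namespace Cfsg.Agent.FischerThm.SympCase

theorem one_add_one : (1 : ZMod 2) + 1 = 0 := by decide

theorem eq_of_iff_one {a b : ZMod 2} (h : a = 1 ↔ b = 1) : a = b := by
  rcases z2 a with rfl | rfl <;> rcases z2 b with rfl | rfl <;> first | rfl | simp at h

section Tr

variable {V : Type*} [AddCommGroup V] [Module (ZMod 2) V] (Q : QuadraticForm (ZMod 2) V)

/-- The move by a transvection. -/
def tr (u v : V) : V := v + polar Q u v • u

theorem map_tr {u : V} (hu : Q u = 1) (v : V) : Q (tr Q u v) = Q v := by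
  rw [tr, Quad.map_add_smul, polar_comm Q v, hu]
  generalize polar Q u v = a
  generalize Q v = b
  revert a b
  decide

theorem tr_tr (u u' v : V) : tr Q (tr Q u u') v = tr Q u (tr Q u' (tr Q u v)) := by
  set a := polar Q u v with ha
  set s := polar Q u u' with hs
  set k := polar Q u' v + s * a with hk
  have e1 : polar Q (tr Q u u') v = k := by
    rw [tr, polar_add_left, polar_smul_left, ← hs, ← ha, smul_eq_mul]
  have e2 : polar Q u' (tr Q u v) = k := by
    rw [tr, polar_add_right, polar_smul_right, polar_comm Q u' u, ← hs, ← ha, smul_eq_mul, hk,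
      mul_comm a s]
  have e3 : polar Q u (tr Q u' (tr Q u v)) = a + k * s := by
    conv_lhs => rw [tr, e2, tr]
    rw [polar_add_right, polar_add_right, polar_smul_right, polar_smul_right,
      ThreeTrans.OrthTwo.polar_self_zero, ← hs, ← ha, smul_eq_mul, smul_eq_mul, mul_zero, add_zero]
  calc tr Q (tr Q u u') v = v + k • (u' + s • u) := by rw [tr, e1, tr]
    _ = v + (k • u' + (k * s) • u) + (a • u + a • u) := by
      rw [ThreeTrans.OrthTwo.add_self, add_zero, smul_add, smul_smul]
    _ = v + a • u + k • u' + (a + k * s) • u := by rw [add_smul a (k * s) u]; abel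
    _ = _ := by
      conv_rhs => rw [tr, e3, tr, e2, tr]

end Tr

variable {m : ℕ}

/-- The larger space. -/
abbrev Ext (m : ℕ) : Type := Vec m × (ZMod 2 × ZMod 2)

/-- Its quadratic form. -/
noncomputable def extForm (Qw : QuadraticForm (ZMod 2) (Vec m)) : QuadraticForm (ZMod 2) (Ext m) :=
  Qw.prod (Quad.binForm 1 1)

theorem extForm_apply (Qw : QuadraticForm (ZMod 2) (Vec m)) (w : Vec m) (x y : ZMod 2) :
    extForm Qw (w, (x, y)) = Qw w + (x + x * y + y) := by
  show Qw w + Quad.binForm 1 1 (x, y) = _
  rw [Quad.binForm_apply]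
  congr 1
  revert x y
  decide

theorem polar_extForm (Qw : QuadraticForm (ZMod 2) (Vec m)) (u w : Vec m) (a b x y : ZMod 2) :
    polar (extForm Qw) (u, (a, b)) (w, (x, y)) = polar Qw u w + (a * y + x * b) := by
  simp only [polar, Prod.mk_add_mk, extForm_apply]
  generalize Qw (u + w) = p
  generalize Qw u = q
  generalize Qw w = r
  revert a b x y p q r
  decide

variable {G : Type*} [Group G] {D : Set G} {d c : G} {vec : G → Vec m}
  {Qw : QuadraticForm (ZMod 2) (Vec m)}

/-- The partner with a given vector. -/
noncomputable def pre (D : Set G) (d : G) (vec : G → Vec m) (w : Vec m) : G :=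
  Function.invFunOn vec (dperp D d) w

/-- The member commuting with `c` that belongs to a zero of the form. -/
noncomputable def rep (D : Set G) (d c : G) (vec : G → Vec m) (w : Vec m) : G :=
  if w = 0 then c else nbr d c (pre D d vec w)

/-- The member at a nonsingular vector. -/
noncomputable def point (D : Set G) (d c : G) (vec : G → Vec m) (v : Ext m) : G :=
  if v.2.2 = 0 then (if v.1 = 0 then d else pre D d vec v.1)
  else (if v.2.1 = 0 then rep D d c vec v.1 else d * rep D d c vec v.1 * d)

theorem point_d : point D d c vec (0, (1, 0)) = d := by simp [point]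

theorem point_pre {w : Vec m} (hw : w ≠ 0) (a : ZMod 2) :
    point D d c vec (w, (a, 0)) = pre D d vec w := by simp [point, hw]

theorem point_rep (w : Vec m) : point D d c vec (w, (0, 1)) = rep D d c vec w := by simp [point]

theorem point_flip (w : Vec m) : point D d c vec (w, (1, 1)) = d * rep D d c vec w * d := by
  simp [point]

theorem rep_zero : rep D d c vec 0 = c := by simp [rep]

theorem rep_ne {w : Vec m} (hw : w ≠ 0) :
    rep D d c vec w = d * (pre D d vec w * c * pre D d vec w) * d := by
  simp [rep, hw, nbr]

/-- What is known about the line through `d` and `c`. -/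
structure Line (D : Set G) (d c : G) (vec : G → Vec m) (Qw : QuadraticForm (ZMod 2) (Vec m)) :
    Prop where
  coord : Coord D d m vec
  grp : IsThreeTranspositionGroup D
  mem : d ∈ D
  far : c ∈ aside D d
  val : ∀ v, Qw v = indic D d c vec v
  pol : ∀ u v, polar Qw u v = form m u v
  count : (aside D d).ncard = 2 * {v | Qw v = 0}.ncard

namespace Line

variable (L : Line D d c vec Qw)
include L

theorem add (u v : Vec m) : Qw (u + v) = Qw u + Qw v + form m u v := by
  rw [Quad.map_add', L.pol]

theorem add_smul' (v : Vec m) (s : ZMod 2) (u : Vec m) :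
    Qw (v + s • u) = Qw v + s * form m v u + s * Qw u := by
  rcases z2 s with rfl | rfl
  · simp
  · rw [one_smul, L.add, one_mul, one_mul]; ring

theorem pre_mem {w : Vec m} (hw : w ≠ 0) : pre D d vec w ∈ dperp D d :=
  Function.invFunOn_mem (L.coord.exists_eq hw)

theorem vec_pre {w : Vec m} (hw : w ≠ 0) : vec (pre D d vec w) = w :=
  Function.invFunOn_eq (L.coord.exists_eq hw)

theorem pre_vec {b : G} (hb : b ∈ dperp D d) : pre D d vec (vec b) = b :=
  L.coord.inj (L.pre_mem (L.coord.ne_zero hb)) hb (L.vec_pre (L.coord.ne_zero hb))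

theorem commute_c {b : G} (hb : b ∈ dperp D d) : Commute b c ↔ Qw (vec b) = 1 := by
  rw [L.val, L.coord.indic_vec hb]
  exact ⟨fun h => Classical.byContradiction fun hn => not_commute_of_notMem L.far hb hn h,
    fun h => h.2.2.2.symm⟩

theorem not_commute_c {b : G} (hb : b ∈ dperp D d) (h : Qw (vec b) = 0) : ¬ Commute b c :=
  fun hc => zero_ne_one (h.symm.trans ((L.commute_c hb).1 hc))

theorem flip_flip (x : G) : d * (d * x * d) * d = x := by
  simp only [mul_assoc, mul_self L.grp.1 L.mem, mul_one, mul_self_mul L.grp.1 L.mem]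

theorem flip_ne {r : G} (hr : r ∈ aside D d) : d * r * d ≠ r := fun h => hr.2 (by
  show d * r = r * d
  conv_lhs => rw [← h]
  simp only [mul_assoc, mul_self_mul L.grp.1 L.mem])

theorem rep_mem {w : Vec m} (hw : Qw w = 0) :
    rep D d c vec w ∈ aside D d ∧ Commute c (rep D d c vec w) := by
  unfold rep
  split_ifs with h
  · exact ⟨L.far, Commute.refl c⟩
  · exact nbr_spec L.grp L.mem L.far (L.pre_mem h)
      (L.not_commute_c (L.pre_mem h) (by rwa [L.vec_pre h]))

theorem indic_conj {b : G} (hb : b ∈ dperp D d) (e : G) (v : Vec m) :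
    indic D d (b * e * b) vec v = indic D d e vec (v + form m (vec b) v • vec b) := by
  by_cases h0 : v = 0
  · rw [h0, map_zero, zero_smul, add_zero, L.coord.indic_zero, L.coord.indic_zero]
  obtain ⟨x, hx, rfl⟩ := L.coord.exists_eq h0
  rw [← L.coord.conj b hb x hx]
  refine eq_of_iff_one ?_
  rw [L.coord.indic_vec hx, L.coord.indic_vec (dperp_closed L.grp d b hb x hx),
    mem_common_conj L.grp hb]

theorem indic_flip {e : G} (he : e ∈ aside D d) (v : Vec m) :
    indic D d (d * e * d) vec v = indic D d e vec v := by
  refine eq_of_iff_one ?_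
  rw [indic_eq_one, indic_eq_one, common_flip L.grp L.mem he]

/-- The label of a moved line. -/
theorem indic_moved {g : G} (hg : g ∈ dperp D d) (h : Qw (vec g) = 0) (v : Vec m) :
    indic D d (g * c * g) vec v = Qw v + form m (vec g) v := by
  rw [L.indic_conj hg, ← L.val, L.add_smul', h, mul_zero, add_zero, form_comm v,
    mul_self_z2 (form m (vec g) v)]
where
  mul_self_z2 (a : ZMod 2) : a * a = a := by revert a; decide

theorem indic_rep {w : Vec m} (hw : Qw w = 0) (v : Vec m) :
    indic D d (rep D d c vec w) vec v = Qw v + form m w v := by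
  by_cases h : w = 0
  · rw [h, rep_zero, map_zero, LinearMap.zero_apply, add_zero, L.val]
  · rw [rep_ne h, L.indic_flip (conj_mem_aside L.grp (L.pre_mem h) L.far),
      L.indic_moved (L.pre_mem h) (by rwa [L.vec_pre h]), L.vec_pre h]

theorem zero_of_last {w : Vec m} {x : ZMod 2} (h : extForm Qw (w, (x, 1)) = 1) : Qw w = 0 := by
  rw [extForm_apply] at h
  revert h
  generalize Qw w = q
  revert x q
  decide

theorem eq_of_first {w : Vec m} {x : ZMod 2} (h : extForm Qw (w, (x, 0)) = 1) : x = 1 + Qw w := by
  rw [extForm_apply] at h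
  revert h
  generalize Qw w = q
  revert x q
  decide

theorem point_aside {w : Vec m} (x : ZMod 2) (hw : Qw w = 0) :
    point D d c vec (w, (x, 1)) ∈ aside D d ∧
      ∀ v, indic D d (point D d c vec (w, (x, 1))) vec v = Qw v + form m w v := by
  rcases z2 x with rfl | rfl
  · rw [point_rep]
    exact ⟨(L.rep_mem hw).1, L.indic_rep hw⟩
  · rw [point_flip]
    exact ⟨flip_mem_aside L.grp L.mem (L.rep_mem hw).1,
      fun v => by rw [L.indic_flip (L.rep_mem hw).1, L.indic_rep hw]⟩

theorem point_near {w : Vec m} (x : ZMod 2) :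
    Commute d (point D d c vec (w, (x, 0))) ∧ point D d c vec (w, (x, 0)) ∈ D := by
  by_cases h : w = 0
  · simp [point, h, L.mem]
  · rw [point_pre h]
    exact ⟨(L.pre_mem h).2.2, (L.pre_mem h).1⟩

theorem point_injOn : Set.InjOn (point D d c vec) {v | extForm Qw v = 1} := by
  rintro ⟨w, x, y⟩ hv ⟨w', x', y'⟩ hv' he
  rw [Set.mem_ofPred_eq] at hv hv'
  rcases z2 y with rfl | rfl <;> rcases z2 y' with rfl | rfl
  · obtain rfl := L.eq_of_first hv
    obtain rfl := L.eq_of_first hv'
    suffices w = w' by rw [this]
    by_cases h : w = 0 <;> by_cases h' : w' = 0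
    · rw [h, h']
    · rw [h, map_zero, add_zero, point_d, point_pre h'] at he
      exact absurd he.symm (L.pre_mem h').2.1
    · rw [h', map_zero, add_zero, point_d, point_pre h] at he
      exact absurd he (L.pre_mem h).2.1
    · rw [point_pre h, point_pre h'] at he
      rw [← L.vec_pre h, he, L.vec_pre h']
  · exact absurd (he ▸ (L.point_near x).1) (L.point_aside x' (L.zero_of_last hv')).1.2
  · exact absurd (he.symm ▸ (L.point_near x').1) (L.point_aside x (L.zero_of_last hv)).1.2
  · have h := L.zero_of_last hv
    have h' := L.zero_of_last hv'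
    obtain rfl : w = w' := eq_of_form fun v => add_left_cancel (a := Qw v) (by
      rw [← (L.point_aside x h).2 v, he, (L.point_aside x' h').2 v])
    rcases z2 x with rfl | rfl <;> rcases z2 x' with rfl | rfl
    · rfl
    · rw [point_rep, point_flip] at he
      exact absurd he.symm (L.flip_ne (L.rep_mem h).1)
    · rw [point_rep, point_flip] at he
      exact absurd he (L.flip_ne (L.rep_mem h).1)
    · rfl

variable [Finite G]

theorem exists_point_aside {e : G} (he : e ∈ aside D d) :
    ∃ w x, Qw w = 0 ∧ point D d c vec (w, (x, 1)) = e := by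
  classical
  set i : Vec m × ZMod 2 → Ext m := fun p => (p.1, (p.2, 1)) with hi
  set Z : Set (Vec m × ZMod 2) := {v | Qw v = 0} ×ˢ Set.univ with hZ
  have hnon : ∀ p ∈ Z, extForm Qw (i p) = 1 := by
    rintro ⟨w, x⟩ ⟨hw, -⟩
    rw [Set.mem_ofPred_eq] at hw
    rw [hi, extForm_apply, hw]
    rcases z2 x with rfl | rfl <;> simp [one_add_one]
  have hinj : Set.InjOn (fun p => point D d c vec (i p)) Z := fun p hp p' hp' h => by
    have := L.point_injOn (hnon p hp) (hnon p' hp') h
    simp only [hi, Prod.mk.injEq] at this
    exact Prod.ext this.1 this.2.1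
  have hsub : (fun p => point D d c vec (i p)) '' Z ⊆ aside D d := by
    rintro - ⟨⟨w, x⟩, ⟨hw, -⟩, rfl⟩
    exact (L.point_aside x hw).1
  have heq := Set.eq_of_subset_of_ncard_le hsub (by
    rw [hinj.ncard_image, L.count, hZ, Set.ncard_prod, Set.ncard_univ, Nat.card_zmod, mul_comm])
  obtain ⟨⟨w, x⟩, ⟨hw, -⟩, rfl⟩ := heq.ge he
  exact ⟨w, x, hw, rfl⟩

theorem point_bij : Set.BijOn (point D d c vec) {v | extForm Qw v = 1} D := by
  refine ⟨?_, L.point_injOn, ?_⟩
  · rintro ⟨w, x, y⟩ hv
    rw [Set.mem_ofPred_eq] at hv
    rcases z2 y with rfl | rfl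
    · exact (L.point_near x).2
    · exact (L.point_aside x (L.zero_of_last hv)).1.1
  · intro e he
    by_cases hde : Commute d e
    · by_cases hne : e = d
      · exact ⟨(0, (1, 0)), by rw [Set.mem_ofPred_eq, extForm_apply, map_zero]; decide,
          by rw [point_d, hne]⟩
      · have hed : e ∈ dperp D d := ⟨he, hne, hde⟩
        refine ⟨(vec e, (1 + Qw (vec e), 0)), ?_, by rw [point_pre (L.coord.ne_zero hed), L.pre_vec hed]⟩
        rw [Set.mem_ofPred_eq, extForm_apply]
        generalize Qw (vec e) = q
        revert q
        decide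
    · obtain ⟨w, x, hw, rfl⟩ := L.exists_point_aside ⟨he, hde⟩
      refine ⟨(w, (x, 1)), ?_, rfl⟩
      rw [Set.mem_ofPred_eq, extForm_apply, hw]
      rcases z2 x with rfl | rfl <;> simp [one_add_one]

/-- Recognising a member by its label. -/
theorem eq_rep {e : G} {z : Vec m} (he : e ∈ aside D d) (hce : Commute c e)
    (h : ∀ v, indic D d e vec v = Qw v + form m z v) : e = rep D d c vec z := by
  obtain ⟨w, x, hw, rfl⟩ := L.exists_point_aside he
  obtain rfl : w = z := eq_of_form fun v => add_left_cancel (a := Qw v) (by
    rw [← (L.point_aside x hw).2 v, h v])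
  rcases z2 x with rfl | rfl
  · rw [point_rep]
  · exfalso
    rw [point_flip] at hce
    set r := rep D d c vec w
    obtain ⟨hr, hcr⟩ := L.rep_mem hw
    have hr' := flip_mem_aside L.grp L.mem hr
    -- `drd` commutes with `c` and with `dcd = cdc`, so with `d`
    have h1 : Commute (d * c * d) (d * r * d) := by
      show d * c * d * (d * r * d) = d * r * d * (d * c * d)
      simp only [mul_assoc, mul_self_mul L.grp.1 L.mem]
      rw [← mul_assoc c, hcr.eq, mul_assoc]
    rw [braid L.grp.1 L.mem L.far.1 L.far.2] at h1
    have h2 := (hce.mul_left h1).mul_left hce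
    simp only [mul_assoc, mul_self L.grp.1 L.far.1, mul_one,
      mul_self_mul L.grp.1 L.far.1] at h2
    exact hr'.2 (by simpa only [mul_assoc] using h2)

/-- The vectors whose moves are conjugations by their members. -/
def Good (L : Line D d c vec Qw) (u : Ext m) : Prop :=
  ∀ v, extForm Qw v = 1 → point D d c vec (tr (extForm Qw) u v) =
    point D d c vec u * point D d c vec v * point D d c vec u

omit [Finite G] in
theorem good_tr {u u' : Ext m} (hu1 : extForm Qw u = 1) (hu1' : extForm Qw u' = 1)
    (hu : L.Good u) (hu' : L.Good u') : L.Good (tr (extForm Qw) u u') := fun v hv => by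
  rw [tr_tr, hu _ (by rw [map_tr _ hu1', map_tr _ hu1, hv]), hu' _ (by rw [map_tr _ hu1, hv]),
    hu v hv, hu u' hu1']
  simp only [mul_assoc]

omit [Finite G] in
theorem tr_mk (u w : Vec m) (a b x y : ZMod 2) :
    tr (extForm Qw) (u, (a, b)) (w, (x, y)) =
      (w + (form m u w + (a * y + x * b)) • u,
        (x + (form m u w + (a * y + x * b)) * a, y + (form m u w + (a * y + x * b)) * b)) := by
  simp only [tr, polar_extForm, L.pol, Prod.smul_mk, Prod.mk_add_mk, smul_eq_mul]

omit [Finite G] in
theorem point_flip_eq (w : Vec m) (s : ZMod 2) :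
    point D d c vec (w, (1 + s, 1)) = d * point D d c vec (w, (s, 1)) * d := by
  rcases z2 s with rfl | rfl
  · rw [add_zero, point_rep, point_flip]
  · rw [one_add_one, point_rep, point_flip, L.flip_flip]

omit [Finite G] in
theorem good_d : L.Good (0, (1, 0)) := by
  rintro ⟨w, x, y⟩ -
  rw [L.tr_mk, point_d, map_zero, LinearMap.zero_apply, smul_zero, add_zero]
  rcases z2 y with rfl | rfl
  · simp only [mul_zero, add_zero, mul_one]
    exact (conj_self_of_commute L.grp.1 L.mem (L.point_near x).1).symm
  · simp only [mul_one, mul_zero, add_zero, zero_add]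
    rw [add_comm, L.point_flip_eq]

omit [Finite G] in
theorem good_c : L.Good (0, (0, 1)) := by
  rintro ⟨w, x, y⟩ hv
  rw [L.tr_mk, point_rep, rep_zero, map_zero, LinearMap.zero_apply, smul_zero, add_zero]
  simp only [zero_mul, zero_add, mul_one, mul_zero, add_zero]
  have hS := L.grp.1
  have hcd : ¬ Commute c d := fun h => L.far.2 h.symm
  rcases z2 x with rfl | rfl <;> rcases z2 y with rfl | rfl
  · rw [add_zero]
    have h1 := L.eq_of_first hv
    by_cases h : w = 0
    · rw [h, map_zero] at h1; exact absurd h1 (by decide)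
    rw [point_pre h, conj_self_of_commute hS L.far.1 ((L.commute_c (L.pre_mem h)).2 ?_).symm]
    rw [L.vec_pre h]
    revert h1
    generalize Qw w = q
    revert q
    decide
  · rw [add_zero, point_rep,
      conj_self_of_commute hS L.far.1 (L.rep_mem (L.zero_of_last hv)).2]
  · rw [zero_add, point_flip]
    by_cases h : w = 0
    · rw [h, rep_zero, point_d, braid hS L.mem L.far.1 L.far.2]
    have h1 : Qw w = 0 := by
      have h1 := L.eq_of_first hv
      revert h1
      generalize Qw w = q
      revert q
      decide
    rw [point_pre h, rep_ne h, L.flip_flip,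
      braid hS (L.pre_mem h).1 L.far.1 (L.not_commute_c (L.pre_mem h) (by rwa [L.vec_pre h]))]
  · rw [one_add_one, point_flip]
    have hw := L.zero_of_last hv
    by_cases h : w = 0
    · rw [h, rep_zero, point_d, braid hS L.mem L.far.1 L.far.2]
      simp only [mul_assoc, mul_self hS L.far.1, mul_one, mul_self_mul hS L.far.1]
    rw [point_pre h, rep_ne h, L.flip_flip,
      braid hS (L.pre_mem h).1 L.far.1 (L.not_commute_c (L.pre_mem h) (by rwa [L.vec_pre h]))]
    simp only [mul_assoc, mul_self hS L.far.1, mul_one, mul_self_mul hS L.far.1]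

/-- Moving a member commuting with `c` by a partner. -/
theorem pre_rep {u w : Vec m} (hu : u ≠ 0) (hw : Qw w = 0) :
    point D d c vec (w + (form m u w + (1 + Qw u)) • u,
        ((form m u w + (1 + Qw u)) * (1 + Qw u), 1)) =
      pre D d vec u * rep D d c vec w * pre D d vec u := by
  have hS := L.grp.1
  have hb := L.pre_mem hu
  have hvb := L.vec_pre hu
  set b := pre D d vec u with hbdef
  by_cases hw0 : w = 0
  · subst hw0
    rw [map_zero, zero_add, zero_add, rep_zero]
    rcases z2 (Qw u) with hq | hq <;> rw [hq]
    · rw [add_zero, one_smul, one_mul, point_flip, rep_ne hu, L.flip_flip]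
    · rw [one_add_one, zero_smul, zero_mul, point_rep, rep_zero,
        conj_self_of_commute hS hb.1 ((L.commute_c hb).2 (by rw [hvb, hq]))]
  have hg := L.pre_mem hw0
  have hvg := L.vec_pre hw0
  set g := pre D d vec w with hgdef
  have hgc : ¬ Commute g c := L.not_commute_c hg (by rw [hvg, hw])
  have hout : b * rep D d c vec w * b = d * (b * (g * c * g) * b) * d := by
    rw [rep_ne hw0, ← hgdef]
    simp only [← mul_assoc]
    rw [← hb.2.2.eq]
    simp only [mul_assoc]
    rw [← hb.2.2.eq]
  rw [hout]
  by_cases huw : u = w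
  · subst huw
    rw [hgdef, ← hbdef, hw, add_zero, form_self, zero_add, one_smul, one_mul, add_self, point_flip,
      rep_zero]
    simp only [mul_assoc, mul_self hS hb.1, mul_one, mul_self_mul hS hb.1]
  rcases z2 (Qw u) with hq | hq <;> rw [hq]
  swap
  · -- `b` commutes with `c`
    have hbc : b * c * b = c := conj_self_of_commute hS hb.1 ((L.commute_c hb).2 (by rw [hvb, hq]))
    rw [one_add_one, add_zero, mul_zero, point_rep]
    have hk := dperp_closed L.grp d b hb g hg
    have hvk : vec (b * g * b) = w + form m u w • u := by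
      rw [L.coord.conj b hb g hg, hvb, hvg]
    rw [← hvk, rep_ne (L.coord.ne_zero hk), L.pre_vec hk]
    rw [show b * g * b * c * (b * g * b) = b * g * (b * c * b) * g * b by simp only [mul_assoc],
      hbc]
    simp only [mul_assoc]
  rcases z2 (form m u w) with hB | hB <;> rw [hB]
  · -- orthogonal: recognise by the label
    rw [add_zero, zero_add, one_smul, one_mul, point_flip]
    congr 2
    have hbc : ¬ Commute b c := L.not_commute_c hb (by rw [hvb, hq])
    refine (L.eq_rep (conj_mem_aside L.grp hb (conj_mem_aside L.grp hg L.far)) ?_ fun v => ?_).symm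
    · have hbg : b * g * b = g :=
        conj_self_of_commute hS hb.1 ((L.coord.comm b hb g hg).2 (by rw [hvb, hvg, hB]))
      have key : c * (b * (g * c * g) * b) * c = b * (g * c * g) * b := by
        rw [braid hS hg.1 L.far.1 hgc]
        calc c * (b * (c * g * c) * b) * c = (c * b * c) * g * (c * b * c) := by
              simp only [mul_assoc]
          _ = b * c * (b * g * b) * c * b := by
              rw [← braid hS hb.1 L.far.1 hbc]; simp only [mul_assoc]
          _ = _ := by rw [hbg]; simp only [mul_assoc]
      show c * (b * (g * c * g) * b) = b * (g * c * g) * b * c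
      conv_lhs => rw [← key]
      simp only [mul_assoc, mul_self_mul hS L.far.1]
    · rw [L.indic_conj hb, L.indic_moved hg (by rw [hvg, hw]), hvb, hvg, L.add_smul', hq,
        mul_zero, add_zero, map_add, map_smul, form_comm w u, hB, smul_zero, add_zero, map_add,
        LinearMap.add_apply, form_comm v u]
      generalize form m u v = a
      generalize Qw v = q
      generalize form m w v = r
      revert a q r
      decide
  · -- a third partner commutes with `c`
    rw [add_zero, one_add_one, zero_smul, add_zero, zero_mul, point_rep, rep_ne hw0, ← hgdef]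
    have hk := dperp_closed L.grp d g hg b hb
    have hvk : Qw (vec (g * b * g)) = 1 := by
      rw [L.coord.conj g hg b hb, hvb, hvg, form_comm, hB, one_smul, L.add, hq, hw, hB, add_zero,
        zero_add]
    have hkc : g * b * g * c * (g * b * g) = c :=
      conj_self_of_commute hS hk.1 ((L.commute_c hk).2 hvk)
    congr 2
    calc g * c * g = g * (g * b * g * c * (g * b * g)) * g := by rw [hkc]
      _ = _ := by
        simp only [mul_assoc, mul_self hS hg.1, mul_one, mul_self_mul hS hg.1]

theorem good_pre {u : Vec m} (hu : u ≠ 0) : L.Good (u, (1 + Qw u, 0)) := by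
  rintro ⟨w, x, y⟩ hv
  have hb := L.pre_mem hu
  have hvb := L.vec_pre hu
  have hS := L.grp.1
  rw [L.tr_mk, point_pre hu]
  simp only [mul_zero, add_zero]
  rcases z2 y with rfl | rfl
  · simp only [mul_zero, add_zero]
    by_cases h : w = 0
    · obtain rfl := L.eq_of_first hv
      subst h
      rw [map_zero, zero_smul, add_zero, map_zero, add_zero, zero_mul, add_zero, point_d,
        conj_self_of_commute hS hb.1 hb.2.2.symm]
    have hg := L.pre_mem h
    have hk := dperp_closed L.grp d _ hb _ hg
    have hvk : vec (pre D d vec u * pre D d vec w * pre D d vec u) = w + form m u w • u := by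
      rw [L.coord.conj _ hb _ hg, hvb, L.vec_pre h]
    rw [← hvk, point_pre (L.coord.ne_zero hk), point_pre h, L.pre_vec hk]
  · simp only [mul_one]
    have hw := L.zero_of_last hv
    have h := L.pre_rep hu hw
    rcases z2 x with rfl | rfl
    · rw [zero_add, h, point_rep]
    · rw [L.point_flip_eq, h, point_flip]
      simp only [← mul_assoc]
      rw [← hb.2.2.eq]
      simp only [mul_assoc]
      rw [← hb.2.2.eq]

/-- Moves are conjugations. -/
theorem point_tr {u : Ext m} (hu : extForm Qw u = 1) : L.Good u := by
  obtain ⟨w, x, y⟩ := u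
  have hp : extForm Qw ((0 : Vec m), ((1 : ZMod 2), (0 : ZMod 2))) = 1 := by
    rw [extForm_apply, map_zero]; decide
  have hr : extForm Qw ((0 : Vec m), ((0 : ZMod 2), (1 : ZMod 2))) = 1 := by
    rw [extForm_apply, map_zero]; decide
  rcases z2 y with rfl | rfl
  · obtain rfl := L.eq_of_first hu
    by_cases h : w = 0
    · subst h; rw [map_zero, add_zero]; exact L.good_d
    · exact L.good_pre h
  have hw := L.zero_of_last hu
  have hflip : L.Good (w, (1, 1)) := by
    by_cases h : w = 0
    · have := L.good_tr hp hr L.good_d L.good_c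
      rw [L.tr_mk, map_zero] at this
      simpa [h] using this
    · have h1 : extForm Qw (w, ((1 : ZMod 2), (0 : ZMod 2))) = 1 := by
        rw [extForm_apply, hw]; decide
      have := L.good_tr h1 hr (by simpa [hw] using L.good_pre h) L.good_c
      rw [L.tr_mk, map_zero] at this
      simpa using this
  rcases z2 x with rfl | rfl
  · have h1 : extForm Qw (w, ((1 : ZMod 2), (1 : ZMod 2))) = 1 := by
      rw [extForm_apply, hw]; decide
    have := L.good_tr hp h1 L.good_d hflip
    rw [L.tr_mk] at this
    simpa [one_add_one] using this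
  · exact hflip

end Line

end Cfsg.Agent.FischerThm.SympCase
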